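import Mathlib

/-!
A basic open around finitely many points of an affine open.
-/

set_option autoImplicit false
universe u

open AlgebraicGeometry TopologicalSpace

namespace Groth.Agent.SymAF

theorem exists_basicOpen_finset {X : Scheme.{u}} {U : X.Opens} (hU : IsAffineOpen U) (T : Finset X)
    (hT : ∀ t ∈ T, t ∈ U) (V : X.Opens) (hV : ∀ t ∈ T, t ∈ V) :
    ∃ a : Γ(X, U), X.basicOpen a ≤ V ∧ ∀ t ∈ T, t ∈ X.basicOpen a := by
  classical
  -- the ideal of the complement of `V`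
  let C : Set (PrimeSpectrum Γ(X, U)) := {p | hU.fromSpec p ∉ V}
  have hC : IsClosed C := (V.2.preimage hU.fromSpec.continuous).isClosed_compl
  let I : Ideal Γ(X, U) := PrimeSpectrum.vanishingIdeal C
  obtain ⟨a, haI, ha⟩ : ∃ a ∈ I, ∀ t : T, a ∉ (hU.primeIdealOf ⟨t.1, hT t.1 t.2⟩).asIdeal := by
    by_contra hc
    push Not at hc
    obtain ⟨t, -, hle⟩ := (Ideal.subset_union_prime (s := (Finset.univ : Finset T))
      (f := fun t : T => (hU.primeIdealOf ⟨t.1, hT t.1 t.2⟩).asIdeal) (a := Classical.choice (α := T) (by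
        obtain ⟨t, -⟩ := hc 0 I.zero_mem; exact ⟨t⟩)) (b := Classical.choice (α := T) (by
        obtain ⟨t, -⟩ := hc 0 I.zero_mem; exact ⟨t⟩)) (fun t _ _ _ => (hU.primeIdealOf _).isPrime) (I := I)).1
      (fun a ha => by
        obtain ⟨t, h⟩ := hc a ha
        exact Set.mem_biUnion (Finset.mem_univ t) h)
    have h1 : hU.primeIdealOf ⟨t.1, hT t.1 t.2⟩ ∈ PrimeSpectrum.zeroLocus (I : Set Γ(X, U)) := hle
    rw [show I = PrimeSpectrum.vanishingIdeal C from rfl, PrimeSpectrum.zeroLocus_vanishingIdeal_eq_closure,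
      hC.closure_eq] at h1
    refine h1 ?_
    rw [hU.fromSpec_primeIdealOf]
    exact hV t.1 t.2
  refine ⟨a, fun y hy => ?_, fun t ht => ?_⟩
  · have hyU := X.basicOpen_le a hy
    by_contra hyV
    have h2 : hU.primeIdealOf ⟨y, hyU⟩ ∈ C := by
      show hU.fromSpec _ ∉ V
      rwa [hU.fromSpec_primeIdealOf]
    have h3 := (PrimeSpectrum.mem_vanishingIdeal _ _).1 haI _ h2
    replace hy := (Scheme.mem_basicOpen _ a y hyU).1 hy
    letI := TopCat.Presheaf.algebra_section_stalk X.presheaf (⟨y, hyU⟩ : U)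
    haveI := hU.isLocalization_stalk ⟨y, hyU⟩
    exact (IsLocalization.AtPrime.isUnit_to_map_iff (X.presheaf.stalk y) (hU.primeIdealOf ⟨y, hyU⟩).asIdeal a).1 hy h3
  · refine (Scheme.mem_basicOpen _ a t (hT t ht)).2 ?_
    letI := TopCat.Presheaf.algebra_section_stalk X.presheaf (⟨t, hT t ht⟩ : U)
    haveI := hU.isLocalization_stalk ⟨t, hT t ht⟩
    exact (IsLocalization.AtPrime.isUnit_to_map_iff (X.presheaf.stalk t) (hU.primeIdealOf ⟨t, hT t ht⟩).asIdeal a).2 (ha ⟨t, ht⟩)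

end Groth.Agent.SymAF
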